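import Groth.Prelude.Def_SpSeq
import Groth.Prelude.Def_W4c1gvcharpAbut

/-!
# Elementary facts on spectral sequences with abutments
-/

set_option autoImplicit false

universe v u

open CategoryTheory CategoryTheory.Limits

noncomputable section

namespace Groth.Agent.SpSeqEasy8

variable {C : Type u} [Category.{v} C] [Abelian C]

section Fil

variable {X : C}

theorem eq_of_isZero_grPiece (F : ℤ → Subobject X) (hF : Antitone F) (p : ℤ)
    (h : IsZero (SpSeq.grPiece F hF p)) : F p = F (p + 1) := by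
  let ι := (F (p + 1)).ofLE (F p) (hF (Int.le_add_one le_rfl))
  haveI : Epi ι := Preadditive.epi_of_isZero_cokernel _ h
  haveI : IsIso ι := isIso_of_mono_of_epi _
  exact (Subobject.eq_of_comm (asIso ι) (Subobject.ofLE_arrow _)).symm

/-- A family constant along steps in an interval. -/
theorem eq_of_steps {α : Type*} (F : ℤ → α) {a b : ℤ} (hab : a ≤ b)
    (h : ∀ i, a ≤ i → i < b → F i = F (i + 1)) : F a = F b := by
  obtain ⟨k, rfl⟩ : ∃ k : ℕ, b = a + k := ⟨(b - a).toNat, by omega⟩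
  induction k with
  | zero => simp
  | succ k ih =>
    rw [ih (by omega) (fun i hi hi' => h i hi (by push_cast; omega)), h (a + k) (by omega) (by push_cast; omega)]
    congr 1
    push_cast
    omega

end Fil

variable {r₀ : ℤ} {E E' : CohomologicalSpectralSequence C r₀}

theorem isZero_page_succ (r : ℤ) (hr : r₀ ≤ r) (hr' : r₀ ≤ r + 1) (pq : ℤ × ℤ)
    (h : IsZero ((E.page r hr).X pq)) : IsZero ((E.page (r + 1) hr').X pq) :=
  (ShortComplex.isZero_homology_of_isZero_X₂ _ (show IsZero ((E.page r hr).sc pq).X₂ from h)).of_iso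
    (E.iso r (r + 1) pq rfl hr).symm

theorem isZero_page (r : ℤ) (hr : r₀ ≤ r) (pq : ℤ × ℤ) (h : IsZero ((E.page r hr).X pq)) :
    ∀ (k : ℤ) (hk : r₀ ≤ k), r ≤ k → IsZero ((E.page k hk).X pq) := by
  intro k hk hrk
  obtain ⟨n, rfl⟩ : ∃ n : ℕ, k = r + n := ⟨(k - r).toNat, by omega⟩
  induction n with
  | zero => exact h.of_iso (E.pageXIsoOfEq pq (r + ((0 : ℕ) : ℤ)) r (by simp) hk)
  | succ n ih =>
    exact (isZero_page_succ (r + n) (by omega) (by omega) pq (ih (by omega) (by omega))).of_iso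
      (E.pageXIsoOfEq pq _ (r + n + 1) (by push_cast; omega) hk)

/-- Two stationary pages carry the same object. -/
theorem nonempty_page_iso (pq : ℤ × ℤ) {r s : ℤ} (hr : SpSeq.StationaryAt E pq r)
    (hs : SpSeq.StationaryAt E pq s) : Nonempty ((E.page r hr.1).X pq ≅ (E.page s hs.1).X pq) :=
  ⟨(SpSeqMor.statXIso E pq r hr (max r s - r).toNat).symm ≪≫
    E.pageXIsoOfEq pq _ _ (show r + ((max r s - r).toNat : ℤ) = s + ((max r s - s).toNat : ℤ) by omega)
      (SpSeqMor.page_le hr.1 _) ≪≫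
    SpSeqMor.statXIso E pq s hs (max r s - s).toNat⟩

variable {H : ℤ → C} (a : SpSeq.Abutment E H)

theorem isZero_gr (r : ℤ) (hr : r₀ ≤ r) (pq : ℤ × ℤ) (h : IsZero ((E.page r hr).X pq)) :
    IsZero (SpSeq.grPiece (a.fil (pq.1 + pq.2)) (a.anti (pq.1 + pq.2)) pq.1) :=
  (isZero_page r hr pq h (a.rk pq + ((max r (a.rk pq) - a.rk pq).toNat : ℤ))
      (SpSeqMor.page_le (a.stat pq).1 _) (by omega)).of_iso
    ((SpSeqMor.statXIso E pq (a.rk pq) (a.stat pq) _ ≪≫ a.β pq).symm)

theorem fil_eq_succ (n p : ℤ) (r : ℤ) (hr : r₀ ≤ r) (h : IsZero ((E.page r hr).X (p, n - p))) :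
    a.fil n p = a.fil n (p + 1) := by
  obtain ⟨q, rfl⟩ : ∃ q, n = p + q := ⟨n - p, by omega⟩
  rw [add_sub_cancel_left] at h
  exact eq_of_isZero_grPiece _ _ p (isZero_gr a r hr (p, q) h)

theorem homologyMap_eq_zero {α : Type*} {c : ComplexShape α} {K L : HomologicalComplex C c} (f : K ⟶ L) (j : α)
    (h : f.f j = 0) : HomologicalComplex.homologyMap f j = 0 := by
  have h' : HomologicalComplex.cyclesMap f j = 0 := by
    rw [← cancel_mono (L.iCycles j), HomologicalComplex.cyclesMap_i, h, comp_zero, zero_comp]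
  rw [← cancel_epi (K.homologyπ j), HomologicalComplex.homologyπ_naturality, h', zero_comp, comp_zero]

theorem hom_f_eq_zero (φ : E ⟶ E') (r : ℤ) (hr : r₀ ≤ r) (pq : ℤ × ℤ) (h : (φ.hom r hr).f pq = 0) :
    ∀ (k : ℤ) (hk : r₀ ≤ k), r ≤ k → (φ.hom k hk).f pq = 0 := by
  intro k hk hrk
  obtain ⟨n, rfl⟩ : ∃ n : ℕ, k = r + n := ⟨(k - r).toNat, by omega⟩
  induction n with
  | zero =>
    have e : ∀ (k : ℤ) (hk : r₀ ≤ k), k = r → (φ.hom k hk).f pq = 0 := by rintro k hk rfl; exact h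
    exact e _ hk (by simp)
  | succ n ih =>
    have e : ∀ (k : ℤ) (hk : r₀ ≤ k), k = r + n + 1 → (φ.hom k hk).f pq = 0 := by
      rintro k hk rfl
      rw [← cancel_epi (E.iso (r + n) (r + n + 1) pq rfl (by omega)).hom,
        ← φ.comm (r + n) (r + n + 1) pq rfl (by omega), homologyMap_eq_zero _ _ (ih (by omega) (by omega)),
        zero_comp, comp_zero]
    exact e _ hk (by push_cast; omega)

theorem isIso_cokernel_π_of_eq_bot {X : C} (S T : Subobject X) (h : S ≤ T) (hS : S = ⊥) :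
    IsIso (cokernel.π (S.ofLE T h)) := by
  subst hS
  haveI : IsIso (cokernel.π (0 : ((⊥ : Subobject X) : C) ⟶ (T : C))) := inferInstance
  have h0 : (⊥ : Subobject X).ofLE T h = 0 := by
    rw [← cancel_mono T.arrow, Subobject.ofLE_arrow, Subobject.bot_arrow, zero_comp]
  rw [h0]
  infer_instance

theorem nonempty_gr_iso {X : C} (F : ℤ → Subobject X) (hF : Antitone F) (p : ℤ) (ht : F p = ⊤) (hb : F (p + 1) = ⊥) :
    Nonempty (SpSeq.grPiece F hF p ≅ X) := by
  haveI := isIso_cokernel_π_of_eq_bot (F (p + 1)) (F p) (hF (Int.le_add_one le_rfl)) hb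
  haveI : IsIso (F p).arrow := by rw [Subobject.isIso_arrow_iff_eq_top]; exact ht
  exact ⟨(asIso (cokernel.π ((F (p + 1)).ofLE (F p) (hF (Int.le_add_one le_rfl))))).symm ≪≫ asIso (F p).arrow⟩

end Groth.Agent.SpSeqEasy8
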